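import Cfsg.Agent.H91.M23R.Loc
import Cfsg.Agent.H62.M23A7
import Mathlib.GroupTheory.GroupAction.Quotient

/-! The 253 blocks seen from one of them. -/

set_option autoImplicit false

namespace H94.M23R

open Subgroup MulAction H91.M23R H62.M23A7

variable {G : Type*} [Group G]

/-- The normalizer of the sixteen-group. -/
abbrev NE (H : Hep G) : Subgroup G := normalizer (H.E : Set G)

/-- The blocks. -/
abbrev Blk (H : Hep G) : Type _ := G ⧸ NE H

/-- The chosen block. -/
abbrev base (H : Hep G) : Blk H := ((1 : G) : G ⧸ NE H)

/-- The stabilizer of two blocks. -/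
abbrev pair (H : Hep G) (a b : Blk H) : Subgroup G := stabilizer G a ⊓ stabilizer G b

/-- The blocks whose stabilizer inside the stabilizer of `a`, `b` has order divisible by eight;
for two blocks meeting in one point this will be the star of that point. -/
def eight (H : Hep G) (a b : Blk H) : Set (Blk H) :=
  {c | 8 ∣ Nat.card ↥(pair H a b ⊓ stabilizer G c)}

/-- The seven points of the chosen block, and the points it shares with each other block. -/
structure BlockData (H : Hep G) where
  pi : ↥(NE H) →* A7
  surj : Function.Surjective pi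
  ker : pi.ker = H.E.subgroupOf (NE H)
  pts : Blk H → Finset (Fin 7)
  pts_base : pts (base H) = Finset.univ
  pts_smul : ∀ (n : ↥(NE H)) (P : Blk H),
    pts ((n : G) • P) = (pts P).image (fun x => (pi n : Equiv.Perm (Fin 7)) x)
  card_pts : ∀ P, P ≠ base H → (pts P).card = 1 ∨ (pts P).card = 3
  pair_one : ∀ P, (pts P).card = 1 → Nat.card ↥(pair H (base H) P) = 360
  pair_three : ∀ P, (pts P).card = 3 → Nat.card ↥(pair H (base H) P) = 288
  cap_one : ∀ P, (pts P).card = 1 → H.E ⊓ stabilizer G P = ⊥
  cap_three : ∀ P, (pts P).card = 3 → Nat.card ↥(H.E ⊓ stabilizer G P) = 4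
  /-- the stabilizer of a second block induces the full stabilizer of the shared points -/
  image : ∀ P, P ≠ base H →
    ((pair H (base H) P).subgroupOf (NE H)).map pi = setSt (pts P)
  trans : ∀ P Q, P ≠ base H → Q ≠ base H → (pts P).card = (pts Q).card →
    ∃ n : ↥(NE H), (n : G) • P = Q
  exists_one : ∃ P, (pts P).card = 1
  exists_three : ∃ P, (pts P).card = 3

end H94.M23R
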