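import Mathlib.GroupTheory.Subgroup.Centralizer
import Mathlib.GroupTheory.PGroup
import Mathlib.GroupTheory.OrderOfElement

/-! The shape of an involution centralizer `2^4.L3(2)` in a group with the local data of M23. -/

set_option autoImplicit false

namespace H94.M23R

open Subgroup

/-- `Q` is the sixteen-group of the centralizer of `t`. -/
structure CentData {G : Type*} [Group G] (t : G) (Q : Subgroup G) : Prop where
  mem : t ∈ Q
  card_Q : Nat.card Q = 16
  sq : ∀ e ∈ Q, e * e = 1
  le : Q ≤ centralizer ({t} : Set G)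
  normal : centralizer ({t} : Set G) ≤ normalizer (Q : Set G)
  self : centralizer (Q : Set G) ≤ Q
  /-- `Q` is the largest normal 2-subgroup of the centralizer -/
  max : ∀ P : Subgroup G, IsPGroup 2 P → P ≤ centralizer ({t} : Set G) →
    centralizer ({t} : Set G) ≤ normalizer (P : Set G) → P ≤ Q
  /-- the quotient acts faithfully on `Q / ⟨t⟩` -/
  faith : ∀ a ∈ centralizer ({t} : Set G),
    (∀ e ∈ Q, a * e * a⁻¹ * e⁻¹ ∈ zpowers t) → a ∈ Q
  /-- no involution of the quotient commutes with an element of order three -/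
  lift : ∀ x ∈ centralizer ({t} : Set G), orderOf x = 3 → ∀ a ∈ centralizer ({t} : Set G),
    a * a ∈ Q → a * x * a⁻¹ * x⁻¹ ∈ Q → a ∈ Q
  /-- an element of order three fixes exactly four elements of `Q` -/
  fix : ∀ x ∈ centralizer ({t} : Set G), orderOf x = 3 →
    Nat.card ↥(Q ⊓ centralizer ({x} : Set G)) = 4
  /-- the seven cosets of `⟨t⟩` in `Q` are permuted transitively -/
  trans : ∀ v ∈ Q, ∀ u ∈ Q, v ≠ 1 → v ≠ t → u ≠ 1 → u ≠ t →
    ∃ c ∈ centralizer ({t} : Set G), c * v * c⁻¹ = u ∨ c * v * c⁻¹ = t * u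

end H94.M23R
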