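import Cfsg.Agent.H91.M23R.OrbI
import Cfsg.Agent.H94.M23Blocks

/-! The twenty-three stars of seventy-seven blocks. -/

set_option autoImplicit false
set_option linter.style.haveILetI false
set_option linter.unusedSectionVars false
set_option linter.unusedSimpArgs false

noncomputable section

namespace H94.M23R.Star

open Subgroup MulAction H91.M23R H62.M23A7
open scoped Pointwise

variable {G : Type*} [Group G] {H : Hep G} {π : ↥H.N →* A7}

theorem mem_N {g : G} : g ∈ H.N ↔ g • H.base = H.base := by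
  rw [← mem_stabilizer_iff, stabilizer_quotient]

theorem smul_base (n : ↥H.N) : (n : G) • H.base = H.base := mem_N.1 n.2

theorem mem_star_smul (O : Orb H π) (n : ↥H.N) {i : Fin 7} {B : H.Blk} (hB : B ∈ O.star i) :
    (n : G) • B ∈ O.star ((π n : Equiv.Perm (Fin 7)) i) := by
  rcases hB with rfl | ⟨h, hl⟩ | ⟨h, hl⟩
  · exact Or.inl (smul_base n)
  · exact Or.inr (Or.inl ⟨O.smul_one n B h, by rw [O.lab_eq n B h, hl]⟩)
  · exact Or.inr (Or.inr ⟨O.smul_two n B h, by
      rw [O.tri_eq n B h]; exact Finset.mem_image_of_mem _ hl⟩)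

theorem smul_star (O : Orb H π) (n : ↥H.N) (i : Fin 7) :
    (n : G) • O.star i = O.star ((π n : Equiv.Perm (Fin 7)) i) := by
  refine Set.Subset.antisymm ?_ fun B hB => ?_
  · rintro _ ⟨B, hB, rfl⟩
    exact mem_star_smul O n hB
  · refine ⟨((n : G))⁻¹ • B, ?_, smul_inv_smul _ B⟩
    have h := mem_star_smul O n⁻¹ hB
    simp only [map_inv, Subgroup.coe_inv, Equiv.Perm.coe_inv, Equiv.symm_apply_apply] at h
    exact h

variable [Finite G]

/-- The blocks of one suborbit with label `i`. -/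
theorem exists_lab (O : Orb H π) (i : Fin 7) : ∃ B ∈ O.one, O.lab B = i := by
  have h := O.lab_fib i
  obtain ⟨⟨B, h1, h2⟩⟩ := (Nat.card_pos_iff.1
    (show 0 < Nat.card {B : H.Blk // B ∈ O.one ∧ O.lab B = i} by omega)).1
  exact ⟨B, h1, h2⟩

theorem exists_tri (O : Orb H π) {R : Finset (Fin 7)} (hR : R.card = 3) :
    ∃ B ∈ O.two, O.tri B = R := by
  have h := O.tri_fib R hR
  obtain ⟨⟨B, h1, h2⟩⟩ := (Nat.card_pos_iff.1
    (show 0 < Nat.card {B : H.Blk // B ∈ O.two ∧ O.tri B = R} by omega)).1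
  exact ⟨B, h1, h2⟩

theorem ne_base_of_one (O : Orb H π) {B : H.Blk} (h : B ∈ O.one) : B ≠ H.base :=
  fun e => O.base_one (e ▸ h)

theorem ne_base_of_two (O : Orb H π) {B : H.Blk} (h : B ∈ O.two) : B ≠ H.base :=
  fun e => O.base_two (e ▸ h)

theorem star_injective (O : Orb H π) : Function.Injective O.star := by
  intro i j h
  obtain ⟨B, hB, hl⟩ := exists_lab O i
  have : B ∈ O.star j := h ▸ Or.inr (Or.inl ⟨hB, hl⟩)
  rcases this with e | ⟨-, e⟩ | ⟨e, -⟩
  · exact absurd e (ne_base_of_one O hB)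
  · exact hl.symm.trans e
  · exact absurd e (O.disj B hB)

/-- The sixteen blocks with label `i`. -/
def lab16 (O : Orb H π) (i : Fin 7) : Set H.Blk := {B | B ∈ O.one ∧ O.lab B = i}

theorem ncard_lab16 (O : Orb H π) (i : Fin 7) : (lab16 O i).ncard = 16 := by
  rw [← Nat.card_coe_set_eq]; exact O.lab_fib i

theorem star_ncard (O : Orb H π) (i : Fin 7) : (O.star i).ncard = 77 := by
  classical
  haveI := Fintype.ofFinite H.Blk
  set Ts : Finset (Finset (Fin 7)) := ((Finset.univ : Finset (Fin 7)).powersetCard 3).filter (i ∈ ·)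
    with hTs
  have hTs15 : ∀ j : Fin 7, (((Finset.univ : Finset (Fin 7)).powersetCard 3).filter (j ∈ ·)).card
      = 15 := by decide +kernel
  have hmid : ({B : H.Blk | B ∈ O.two ∧ i ∈ O.tri B}).ncard = 60 := by
    have e : ({B : H.Blk | B ∈ O.two ∧ i ∈ O.tri B}) =
        ↑(Ts.biUnion fun R => Finset.univ.filter fun B => B ∈ O.two ∧ O.tri B = R) := by
      ext B
      simp only [Set.mem_setOf_eq, Finset.coe_biUnion, Set.mem_iUnion, Finset.coe_filter,
        Finset.mem_univ, true_and, Finset.mem_coe, exists_prop, hTs, Finset.mem_filter,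
        Finset.mem_powersetCard, Finset.subset_univ]
      exact ⟨fun h => ⟨O.tri B, ⟨O.tri_card B h.1, h.2⟩, h.1, rfl⟩,
        fun ⟨R, hR, h1, h2⟩ => ⟨h1, h2 ▸ hR.2⟩⟩
    rw [e, Set.ncard_coe_finset, Finset.card_biUnion]
    · have h4 : ∀ R ∈ Ts, (Finset.univ.filter fun B => B ∈ O.two ∧ O.tri B = R).card = 4 := by
        intro R hR
        rw [hTs, Finset.mem_filter, Finset.mem_powersetCard] at hR
        rw [← O.tri_fib R hR.1.2, Nat.card_eq_fintype_card, Fintype.card_subtype]
      rw [Finset.sum_congr rfl h4, Finset.sum_const, hTs, hTs15 i]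
      rfl
    · intro R _ R' _ hne
      exact Finset.disjoint_left.2 fun B h h' =>
        hne ((Finset.mem_filter.1 h).2.2.symm.trans (Finset.mem_filter.1 h').2.2)
  have hsplit : O.star i = insert H.base (lab16 O i ∪ {B : H.Blk | B ∈ O.two ∧ i ∈ O.tri B}) := rfl
  rw [hsplit, Set.ncard_insert_of_notMem, Set.ncard_union_eq, ncard_lab16, hmid]
  · exact Set.disjoint_left.2 fun B h h' => O.disj B h.1 h'.1
  · rintro (h | h)
    · exact O.base_one h.1
    · exact O.base_two h.1

theorem card_fix_dvd (hk : π.ker = H.E.subgroupOf H.N) (O : Orb H π) {B D : H.Blk}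
    (hB : B ∈ O.one) (S : Subgroup A7)
    (hS : ∀ n : ↥H.N, (n : G) • B = B → (n : G) • D = D → π n ∈ S) :
    Nat.card {n : ↥H.N // (n : G) • B = B ∧ (n : G) • D = D} ∣ Nat.card S := by
  let P : Subgroup ↥H.N := (stabilizer G B ⊓ stabilizer G D).subgroupOf H.N
  have hP : ∀ {n : ↥H.N}, n ∈ P ↔ (n : G) • B = B ∧ (n : G) • D = D := by
    intro n
    simp only [P, mem_subgroupOf, Subgroup.mem_inf, mem_stabilizer_iff]
  rw [← Nat.card_congr (Equiv.subtypeEquivRight fun n => hP)]
  let f : P →* S := (π.comp P.subtype).codRestrict S fun n => hS n (hP.1 n.2).1 (hP.1 n.2).2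
  refine Subgroup.card_dvd_of_injective f ((injective_iff_map_eq_one f).2 fun n hn => ?_)
  have h1 : π (n : ↥H.N) = 1 := congrArg Subtype.val hn
  have hE : ((n : ↥H.N) : G) ∈ H.E := by
    have : (n : ↥H.N) ∈ π.ker := h1
    rwa [hk, mem_subgroupOf] at this
  exact Subtype.ext (Subtype.ext (O.one_free B hB _ hE (hP.1 n.2).1))

/-- A block of the short suborbit carries the star of its label to a star of its own. -/
theorem key (hk : π.ker = H.E.subgroupOf H.N) (O : Orb H π) (h8 : EightStmt O) {g : G}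
    (hg : g • H.base ∈ O.one) :
    g • O.star (O.lab (g⁻¹ • H.base)) = O.star (O.lab (g • H.base)) := by
  classical
  set B := g • H.base with hBdef
  set B' := g⁻¹ • H.base with hB'def
  have hB' : B' ∈ O.one := O.one_symm g hg
  symm
  refine Set.eq_of_subset_of_ncard_le (fun D hD => ?_)
    (by rw [Set.ncard_smul_set, star_ncard, star_ncard]) (Set.toFinite _)
  rw [Set.mem_smul_set_iff_inv_smul_mem]
  by_cases hD0 : D = H.base
  · subst hD0
    exact Or.inr (Or.inl ⟨hB', rfl⟩)
  by_cases hDB : D = B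
  · subst hDB
    exact Or.inl (inv_smul_smul g _)
  have h := h8 B hg D hD hDB hD0
  set D' := g⁻¹ • D with hD'def
  have hD'0 : D' ≠ H.base := fun e => hDB (by rw [hBdef, ← e, hD'def, smul_inv_smul])
  have hD'B : D' ≠ B' := fun e => hD0 (MulAction.injective (g⁻¹) e)
  have hmemN : ∀ n : ↥H.N, (n : G) • B = B → g⁻¹ * n * g ∈ H.N := fun n hn => by
    rw [mem_N, mul_smul, mul_smul, ← hBdef, hn, hBdef, inv_smul_smul]
  have hmemN' : ∀ n : ↥H.N, (n : G) • B' = B' → g * n * g⁻¹ ∈ H.N := fun n hn => by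
    rw [mem_N, mul_smul, mul_smul, ← hB'def, hn, hB'def, smul_inv_smul]
  let e : {n : ↥H.N // (n : G) • B = B ∧ (n : G) • D = D} ≃
      {n : ↥H.N // (n : G) • B' = B' ∧ (n : G) • D' = D'} :=
    { toFun := fun n => ⟨⟨g⁻¹ * n.1 * g, hmemN n.1 n.2.1⟩,
        by simp only [hB'def, mul_smul, smul_inv_smul, smul_base n.1],
        by simp only [hD'def, mul_smul, smul_inv_smul, n.2.2]⟩
      invFun := fun n => ⟨⟨g * n.1 * g⁻¹, hmemN' n.1 n.2.1⟩,
        by simp only [hBdef, mul_smul, inv_smul_smul, smul_base n.1],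
        by
          have := n.2.2
          simp only [hD'def] at this
          simp only [mul_smul, this, smul_inv_smul]⟩
      left_inv := fun n => by ext; simp [mul_assoc]
      right_inv := fun n => by ext; simp [mul_assoc] }
  rw [Nat.card_congr e] at h
  have hlab : ∀ n : ↥H.N, (n : G) • B' = B' → π n ∈ ptSt (O.lab B') := fun n hn => by
    rw [mem_ptSt, ← O.lab_eq n B' hB', hn]
  rcases O.cover D' with e0 | h1 | h2
  · exact absurd e0 hD'0
  · by_cases hl : O.lab D' = O.lab B'
    · exact Or.inr (Or.inl ⟨h1, hl⟩)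
    · exfalso
      have := h.trans (card_fix_dvd hk O hB' (ptSt (O.lab B') ⊓ ptSt (O.lab D')) fun n hn hn' =>
        ⟨hlab n hn, show π n ∈ ptSt _ by rw [mem_ptSt, ← O.lab_eq n D' h1, hn']⟩)
      rw [card_two_points fun e => hl e.symm] at this
      norm_num at this
  · by_cases hl : O.lab B' ∈ O.tri D'
    · exact Or.inr (Or.inr ⟨h2, hl⟩)
    · exfalso
      refine not_dvd_pt_set_out (O.tri_card D' h2) hl
        (h.trans (card_fix_dvd hk O hB' _ fun n hn hn' => ⟨hlab n hn, ?_⟩))
      refine mem_setSt_of fun x hx => ?_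
      have := O.tri_eq n D' h2
      rw [hn'] at this
      rw [this]
      exact Finset.mem_image_of_mem _ hx

variable (hs : Function.Surjective π) (hk : π.ker = H.E.subgroupOf H.N) (O : Orb H π)
  (h8 : EightStmt O)
include hs hk h8

theorem orbit_S0 (hG : Nat.card G = 10200960) :
    (∀ B ∈ O.star 0, ∃ k ∈ stabilizer G (O.star 0), k • H.base = B) ∧
      (stabilizer G (O.star 0)).index = 23 := by
  classical
  set K := stabilizer G (O.star 0) with hK
  have hNK : ∀ n : ↥H.N, (n : G) ∈ K ↔ π n ∈ ptSt 0 := fun n => by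
    rw [hK, mem_stabilizer_iff, smul_star, mem_ptSt]
    exact ⟨fun h => star_injective O h, fun h => by rw [h]⟩
  set X := orbit ↥K H.base with hX
  have hsub : X ⊆ O.star 0 := by
    rintro _ ⟨⟨k, hk'⟩, rfl⟩
    show k • H.base ∈ O.star 0
    rw [← mem_stabilizer_iff.1 hk']
    exact Set.smul_mem_smul_set (Or.inl rfl)
  have hone : lab16 O 0 ⊆ X := by
    intro B hB
    obtain ⟨hB1, hB2⟩ := hB
    obtain ⟨g, rfl⟩ : ∃ g : G, g • H.base = B := exists_smul_eq G H.base B
    obtain ⟨a, -, ha⟩ : ∃ a : A7, a ∈ (⊤ : Subgroup A7) ∧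
        (a : Equiv.Perm (Fin 7)) 0 = O.lab (g⁻¹ • H.base) := by
      obtain ⟨a, ha⟩ := exists_map (k := 1) (by norm_num) ![0] ![O.lab (g⁻¹ • H.base)]
        (Function.injective_of_subsingleton _) (Function.injective_of_subsingleton _)
      exact ⟨a, mem_top a, ha 0⟩
    obtain ⟨n, rfl⟩ := hs a
    refine ⟨⟨g * n, ?_⟩, ?_⟩
    · rw [mem_stabilizer_iff, mul_smul, smul_star, ha, key hk O h8 hB1, hB2]
    · show (g * (n : G)) • H.base = g • H.base
      rw [mul_smul, smul_base]
  have hcov : ∀ B ∈ O.star 0, B ∈ insert H.base (lab16 O 0) ∨ (B ∈ O.two ∧ 0 ∈ O.tri B) := by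
    rintro B (h | h | h)
    exacts [Or.inl (Or.inl h), Or.inl (Or.inr h), Or.inr h]
  have hbase : H.base ∈ X := mem_orbit_self H.base
  have htwo : ∀ D ∈ X, D ∈ O.two → O.star 0 ⊆ X := by
    intro D hDX hD B hB
    rcases hcov B hB with h | ⟨h, h0⟩
    · rcases h with rfl | h
      exacts [hbase, hone h]
    have hD0 : (0 : Fin 7) ∈ O.tri D := by
      rcases hsub hDX with e | ⟨e, -⟩ | ⟨-, e⟩
      exacts [absurd e (ne_base_of_two O hD), absurd hD (O.disj D e), e]
    obtain ⟨a, ha0, ha⟩ := triple_trans (O.tri_card D hD) (O.tri_card B h) hD0 h0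
    obtain ⟨n, rfl⟩ := hs a
    have hn : (n : G) ∈ K := (hNK n).2 ha0
    obtain ⟨e, he, heB⟩ := O.two_trans _ (O.smul_two n D hD) B h (by
      rw [O.tri_eq n D hD, ← ha, Finset.map_eq_image]; rfl)
    have heN : e ∈ H.N := le_normalizer he
    have heK : e ∈ K := (hNK ⟨e, heN⟩).2 (by
      have : (⟨e, heN⟩ : ↥H.N) ∈ π.ker := by rw [hk, mem_subgroupOf]; exact he
      rw [MonoidHom.mem_ker.1 this]; exact one_mem _)
    obtain ⟨⟨k, hk'⟩, rfl⟩ := hDX
    exact ⟨⟨e * n * k, K.mul_mem (K.mul_mem heK hn) hk'⟩, by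
      rw [← heB]
      show (e * (n : G) * k) • H.base = e • (n : G) • k • H.base
      rw [mul_smul, mul_smul]⟩
  have hXcase : X.ncard = 77 ∨ X.ncard = 17 := by
    by_cases h : ∃ D ∈ X, D ∈ O.two
    · obtain ⟨D, hD, hD2⟩ := h
      left
      rw [Set.Subset.antisymm hsub (htwo D hD hD2), star_ncard]
    · push_neg at h
      right
      have : X = insert H.base (lab16 O 0) := by
        refine Set.Subset.antisymm (fun B hB => ?_) (Set.insert_subset hbase hone)
        rcases hcov B (hsub hB) with h' | ⟨h', -⟩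
        exacts [h', absurd h' (h B hB)]
      rw [this, Set.ncard_insert_of_notMem (fun e => O.base_one e.1) (Set.toFinite _), ncard_lab16]
  have hst : Nat.card (stabilizer ↥K H.base) = 5760 := by
    have hc : Nat.card (↥((ptSt 0).comap π)) = 5760 := by
      have h1 := ((ptSt 0).comap π).index_mul_card
      rw [index_comap_of_surjective _ hs, H.card_N] at h1
      have h2 := (ptSt 0).index_mul_card
      rw [card_ptSt, card_A7] at h2
      have : (ptSt 0).index = 7 :=
        Nat.eq_of_mul_eq_mul_right (show 0 < 360 by norm_num) (h2.trans (by norm_num))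
      rw [this] at h1
      omega
    rw [← hc]
    refine Nat.card_congr
      { toFun := fun k => ⟨⟨k.1.1, mem_N.2 k.2⟩, (hNK ⟨k.1.1, mem_N.2 k.2⟩).1 k.1.2⟩
        invFun := fun n => ⟨⟨n.1.1, (hNK n.1).2 n.2⟩, smul_base n.1⟩
        left_inv := fun _ => rfl
        right_inv := fun _ => rfl }
  have hKc : X.ncard * 5760 = Nat.card K := by
    rw [← hst, ← (stabilizer ↥K H.base).index_mul_card, index_stabilizer]
  have hdvd : Nat.card K ∣ 10200960 := hG ▸ card_subgroup_dvd_card K
  have h77 : X.ncard = 77 := by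
    rcases hXcase with h | h
    · exact h
    · exfalso
      rw [← hKc, h] at hdvd
      norm_num at hdvd
  refine ⟨fun B hB => ?_, ?_⟩
  · have : X = O.star 0 :=
      Set.eq_of_subset_of_ncard_le hsub (by rw [star_ncard, h77]) (Set.toFinite _)
    rw [← this] at hB
    obtain ⟨⟨k, hk'⟩, rfl⟩ := hB
    exact ⟨k, hk', rfl⟩
  · have := K.index_mul_card
    rw [hG, ← hKc, h77] at this
    omega

theorem card_Blk (hG : Nat.card G = 10200960) : Nat.card H.Blk = 253 := by
  have h := H.N.index_mul_card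
  rw [hG, H.card_N] at h
  rw [← index_eq_card]
  omega

/-- The stars containing the base are the seven of its points. -/
theorem mem_base_iff (hG : Nat.card G = 10200960) {A : Set H.Blk} (hA : A ∈ orbit G (O.star 0)) :
    H.base ∈ A ↔ ∃ i, O.star i = A := by
  constructor
  · intro hb
    obtain ⟨g, rfl⟩ := hA
    rw [Set.mem_smul_set_iff_inv_smul_mem] at hb
    obtain ⟨k, hk', hkb⟩ := (orbit_S0 hs hk O h8 hG).1 _ hb
    have hN : g * k ∈ H.N := mem_N.2 (by rw [mul_smul, hkb, smul_inv_smul])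
    refine ⟨_, ((smul_star O ⟨g * k, hN⟩ 0).symm.trans ?_)⟩
    show (g * k) • O.star 0 = g • O.star 0
    rw [mul_smul, mem_stabilizer_iff.1 hk']
  · rintro ⟨i, rfl⟩
    exact Or.inl rfl

theorem star_mem_orbit (i : Fin 7) : O.star i ∈ orbit G (O.star 0) := by
  obtain ⟨a, ha⟩ := exists_map (k := 1) (by norm_num) ![0] ![i]
    (Function.injective_of_subsingleton _) (Function.injective_of_subsingleton _)
  obtain ⟨n, rfl⟩ := hs a
  exact ⟨(n : G), by
    show (n : G) • O.star 0 = O.star i
    rw [smul_star, show (π n : Equiv.Perm (Fin 7)) 0 = i from ha 0]⟩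

/-- A group with the local data and stars of M23 is M23. -/
theorem iso (hG : Nat.card G = 10200960) : Nonempty (G ≃* ↥Cfsg.Spor.M23) := by
  classical
  haveI : Fintype H.Blk := Fintype.ofFinite _
  let α := ↥(orbit G (O.star 0))
  haveI : Fintype α := Fintype.ofFinite _
  let inc : H.Blk → Finset α := fun B => Finset.univ.filter fun a => B ∈ (a : Set H.Blk)
  have hinc : ∀ (g : G) B, inc (g • B) = (inc B).image (g • ·) := by
    intro g B
    ext a
    simp only [inc, Finset.mem_filter, Finset.mem_univ, true_and, Finset.mem_image]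
    constructor
    · intro h
      refine ⟨g⁻¹ • a, ?_, smul_inv_smul g a⟩
      rw [show ((g⁻¹ • a : α) : Set H.Blk) = g⁻¹ • (a : Set H.Blk) from rfl,
        Set.mem_smul_set_iff_inv_smul_mem, inv_inv]
      exact h
    · rintro ⟨c, hc, rfl⟩
      exact Set.smul_mem_smul_set hc
  let st : Fin 7 → α := fun i => ⟨O.star i, star_mem_orbit hs hk O h8 i⟩
  have hst : Function.Injective st := fun i j h => star_injective O (congrArg Subtype.val h)
  have hbase : inc H.base = Finset.univ.image st := by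
    ext a
    simp only [inc, st, Finset.mem_filter, Finset.mem_univ, true_and, Finset.mem_image]
    exact (mem_base_iff hs hk O h8 hG a.2).trans
      ⟨fun ⟨i, e⟩ => ⟨i, Subtype.ext e⟩, fun ⟨i, e⟩ => ⟨i, congrArg Subtype.val e⟩⟩
  have h7 : ∀ B, (inc B).card = 7 := by
    intro B
    obtain ⟨g, rfl⟩ : ∃ g : G, g • H.base = B := exists_smul_eq G H.base B
    rw [hinc, Finset.card_image_of_injective _ (MulAction.injective g), hbase,
      Finset.card_image_of_injective _ hst, Finset.card_univ, Fintype.card_fin]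
  have h3 : ∀ B, B ≠ H.base → (inc H.base ∩ inc B).card ≤ 3 := by
    intro B hB
    rcases O.cover B with e | h | h
    · exact absurd e hB
    · calc (inc H.base ∩ inc B).card ≤ (({O.lab B} : Finset (Fin 7)).image st).card :=
            Finset.card_le_card fun a ha => ?_
        _ ≤ 3 := le_trans Finset.card_image_le (by simp)
      rw [hbase, Finset.mem_inter, Finset.mem_image] at ha
      obtain ⟨⟨i, -, rfl⟩, ha⟩ := ha
      rcases (Finset.mem_filter.1 ha).2 with e | ⟨-, e⟩ | ⟨e, -⟩
      · exact absurd e hB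
      · exact Finset.mem_image_of_mem _ (Finset.mem_singleton.2 e.symm)
      · exact absurd e (O.disj B h)
    · calc (inc H.base ∩ inc B).card ≤ ((O.tri B).image st).card :=
            Finset.card_le_card fun a ha => ?_
        _ ≤ 3 := le_trans Finset.card_image_le (by rw [O.tri_card B h])
      rw [hbase, Finset.mem_inter, Finset.mem_image] at ha
      obtain ⟨⟨i, -, rfl⟩, ha⟩ := ha
      rcases (Finset.mem_filter.1 ha).2 with e | ⟨e, -⟩ | ⟨-, e⟩
      · exact absurd e hB
      · exact absurd h (O.disj B e)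
      · exact Finset.mem_image_of_mem _ e
  haveI : FaithfulSMul G H.Blk := by
    refine ⟨fun {a b} hab => ?_⟩
    have h1 : ∀ B : H.Blk, (b⁻¹ * a) • B = B := fun B => by
      rw [mul_smul, hab, inv_smul_smul]
    obtain ⟨B, hB, -⟩ := exists_lab O 0
    have hE : ∀ x ∈ H.E, (∀ D : H.Blk, x • D = D) → x = 1 := fun x hx hD =>
      O.one_free B hB x hx (hD B)
    have hN : b⁻¹ * a ∈ H.N := mem_N.2 (h1 _)
    have hC : b⁻¹ * a ∈ H.E := H.self (mem_centralizer_iff.2 fun e he => by
      have hx : b⁻¹ * a * e * (b⁻¹ * a)⁻¹ * e⁻¹ ∈ H.E :=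
        H.E.mul_mem ((mem_normalizer_iff.1 hN e).1 he) (H.E.inv_mem he)
      have h2 : ∀ D : H.Blk, (b⁻¹ * a)⁻¹ • D = D := fun D => by
        rw [inv_smul_eq_iff, h1]
      have := hE _ hx fun D => by
        rw [mul_smul, mul_smul, mul_smul (b⁻¹ * a) e, h2, smul_inv_smul, h1]
      exact (mul_inv_eq_iff_eq_mul.1 (mul_inv_eq_one.1 this)).symm)
    exact inv_mul_eq_one.1 (hE _ hC h1) |>.symm
  refine H94.M23Blocks.iso_of_blocks hG (Ω := H.Blk) (α := α)
    (by rw [← Nat.card_eq_fintype_card, card_Blk hs hk O h8 hG]) ?_ inc h7 ?_ ?_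
  · rw [← Nat.card_eq_fintype_card, Nat.card_coe_set_eq, ← index_stabilizer]
    exact (orbit_S0 hs hk O h8 hG).2
  · intro g B a
    rw [hinc, Finset.mem_image]
    exact ⟨fun h => ⟨a, h, rfl⟩, fun ⟨c, hc, e⟩ => MulAction.injective g e ▸ hc⟩
  · intro w w' hne
    obtain ⟨g, rfl⟩ : ∃ g : G, g • H.base = w := exists_smul_eq G H.base w
    obtain ⟨B, rfl⟩ : ∃ B, g • B = w' := ⟨g⁻¹ • w', smul_inv_smul g w'⟩
    rw [hinc, hinc, ← Finset.image_inter _ _ (MulAction.injective g),
      Finset.card_image_of_injective _ (MulAction.injective g)]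
    exact h3 B fun e => hne (by rw [e])

end H94.M23R.Star
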